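import Cfsg.Agent.Lib.SylowFixAut.Small
import Mathlib.GroupTheory.SpecificGroups.Cyclic

/-!
# Groups of rank one with a torus element of order dividing `p - 1`

* `Crit p M` : a Sylow subgroup `Q` with cyclic `N(Q)/Q`, an element `n` whose coset has order dividing `p - 1`,
  and no nontrivial automorphism fixing `Q` pointwise fixes `n`;
* `Crit.fix_coset` : automorphisms of `p`-power order fixing `Q` fix the coset of `n`;
* `crit_of_data` : the criterion.
-/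

set_option autoImplicit false
set_option linter.unusedSectionVars false

namespace Cfsg.Agent.PMinimalCentre

open Subgroup Cfsg.Agent.SylowFixAut

/-- The data needed on a group of rank one. -/
structure Crit (p : ℕ) (M : Type*) [Group M] where
  Q : Subgroup M
  pgrp : IsPGroup p ↥Q
  index : ¬ p ∣ Q.index
  n : M
  n_mem : n ∈ normalizer (Q : Set M)
  n_pow : n ^ (p - 1) ∈ Q
  cyclic : ∃ d ∈ normalizer (Q : Set M), ∀ x ∈ normalizer (Q : Set M), ∃ k : ℤ, x * (d ^ k)⁻¹ ∈ Q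
  rigid : ∀ β : MulAut M, (∀ x ∈ Q, β x = x) → β n = n → β = 1

variable {p : ℕ} [Fact p.Prime] {M : Type*} [Group M] [Finite M]

theorem Crit.fix_coset (C : Crit p M) (α : MulAut M) (hQ : C.Q.map α.toMonoidHom = C.Q) {a : ℕ}
    (ha : α ^ p ^ a = 1) : C.n⁻¹ * α C.n ∈ C.Q := by
  classical
  have hp : p.Prime := Fact.out
  set N := normalizer (C.Q : Set M) with hN
  haveI : (C.Q.subgroupOf N).Normal := normal_subgroupOf_of_le_normalizer le_rfl
  have hNmap : N.map α.toMonoidHom = N := by rw [hN, map_equiv_normalizer_eq, hQ]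
  let αN : MulAut ↥N := (MulEquiv.subgroupMap α N).trans (MulEquiv.subgroupCongr hNmap)
  have hαN : ∀ (j : ℕ) (x : ↥N), ((αN ^ j) x : M) = (α ^ j) x := by
    intro j
    induction j with
    | zero => intro x; rfl
    | succ j ih =>
      intro x
      rw [pow_succ', pow_succ', MulAut.mul_apply, MulAut.mul_apply, ← ih x]
      rfl
  have hQN : (C.Q.subgroupOf N).map αN.toMonoidHom = C.Q.subgroupOf N := by
    refine eq_of_le_of_card_ge ?_ (card_map_of_injective αN.injective).ge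
    rintro _ ⟨x, hx, rfl⟩
    rw [mem_subgroupOf]
    exact hQ ▸ ⟨x, hx, rfl⟩
  let αQ : MulAut (↥N ⧸ C.Q.subgroupOf N) := QuotientGroup.congr _ _ αN hQN
  have hαQ : ∀ (j : ℕ) (x : ↥N), (αQ ^ j) (QuotientGroup.mk x) = QuotientGroup.mk ((αN ^ j) x) := by
    intro j
    induction j with
    | zero => intro x; rfl
    | succ j ih =>
      intro x
      rw [pow_succ', pow_succ', MulAut.mul_apply, MulAut.mul_apply, ih x]
      rfl
  haveI : IsCyclic (↥N ⧸ C.Q.subgroupOf N) := by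
    obtain ⟨d, hd, hgen⟩ := C.cyclic
    refine ⟨⟨QuotientGroup.mk ⟨d, hd⟩, fun y => ?_⟩⟩
    induction y using QuotientGroup.induction_on with
    | H x =>
      obtain ⟨k, hk⟩ := hgen x x.2
      refine ⟨k, ?_⟩
      show (QuotientGroup.mk ⟨d, hd⟩ : ↥N ⧸ C.Q.subgroupOf N) ^ k = _
      rw [← QuotientGroup.mk_zpow]
      refine (QuotientGroup.eq).2 ?_
      rw [mem_subgroupOf]
      have h := (mem_normalizer_iff.1 (inv_mem (zpow_mem hd k)) _).1 hk
      simpa [mul_assoc] using h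
  haveI := Fintype.ofFinite (↥N ⧸ C.Q.subgroupOf N)
  set nQ : ↥N ⧸ C.Q.subgroupOf N := QuotientGroup.mk ⟨C.n, C.n_mem⟩ with hnQ
  have hnQ1 : nQ ^ (p - 1) = 1 := by
    rw [hnQ, ← QuotientGroup.mk_pow, QuotientGroup.eq_one_iff, mem_subgroupOf]
    exact C.n_pow
  let W := {x : ↥N ⧸ C.Q.subgroupOf N // x ^ (p - 1) = 1}
  have hW : Fintype.card W < p := by
    rw [Fintype.card_subtype]
    have h1 := IsCyclic.card_pow_eq_one_le (α := ↥N ⧸ C.Q.subgroupOf N) (n := p - 1)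
      (by have := hp.two_le; omega)
    have := hp.two_le
    omega
  let σ : Equiv.Perm W := αQ.toEquiv.subtypeEquiv fun x => by
    show x ^ (p - 1) = 1 ↔ (αQ x) ^ (p - 1) = 1
    rw [← map_pow, MulEquiv.map_eq_one_iff]
  have hσ : ∀ (j : ℕ) (w : W), ((σ ^ j) w).1 = (αQ ^ j) w.1 := by
    intro j
    induction j with
    | zero => intro w; rfl
    | succ j ih =>
      intro w
      rw [pow_succ', pow_succ', MulAut.mul_apply, Equiv.Perm.mul_apply, ← ih w]
      rfl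
  have hσ1 : σ = 1 := by
    have h1 : σ ^ p ^ a = 1 := Equiv.ext fun w => Subtype.ext (by
      rw [hσ]
      obtain ⟨x, hx⟩ := QuotientGroup.mk_surjective w.1
      rw [← hx, hαQ]
      show _ = w.1
      rw [← hx]
      congr 1
      exact Subtype.ext (by rw [hαN, ha]; rfl))
    have h2 : orderOf σ ∣ Nat.factorial (Fintype.card W) := by
      rw [← Fintype.card_perm]; exact orderOf_dvd_card
    exact orderOf_eq_one_iff.1 (Nat.eq_one_of_dvd_coprimes
      (Nat.Coprime.pow_left a ((hp.coprime_iff_not_dvd).2 fun h => absurd ((hp.dvd_factorial).1 h) (not_le.2 hW)))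
      (orderOf_dvd_of_pow_eq_one h1) h2)
  have h := congrArg Subtype.val (Equiv.congr_fun hσ1 ⟨nQ, hnQ1⟩)
  change αQ nQ = nQ at h
  have h' : (QuotientGroup.mk (αN ⟨C.n, C.n_mem⟩) : ↥N ⧸ C.Q.subgroupOf N) = nQ := h
  have h2 := QuotientGroup.eq.1 h'.symm
  rw [mem_subgroupOf] at h2
  exact h2

theorem eq_one_of_coprime_pow {G : Type*} [Group G] {x : G} {m n : ℕ} (hmn : m.Coprime n) (hm : x ^ m = 1)
    (hn : x ^ n = 1) : x = 1 :=
  orderOf_eq_one_iff.1 (Nat.eq_one_of_dvd_coprimes hmn (orderOf_dvd_of_pow_eq_one hm) (orderOf_dvd_of_pow_eq_one hn))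

theorem units_eq_one_of_pow {F : Type*} [Field F] [CharP F p] {x : Fˣ} {k : ℕ} (h : x ^ p ^ k = 1) : x = 1 := by
  haveI : ExpChar F p := ExpChar.prime Fact.out
  refine Units.ext (sub_eq_zero.1 (pow_eq_zero_iff (pow_ne_zero k (Fact.out : p.Prime).ne_zero) |>.1 ?_))
  rw [sub_pow_expChar_pow, ← Units.val_pow_eq_pow_val, h, Units.val_one, one_pow, sub_self]

variable {Γ : Type*} [Group Γ] [Finite Γ]

set_option maxHeartbeats 1000000 in
/-- The criterion. -/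
theorem crit_of_data [IsSimpleGroup M] (π : Γ →* M) (hπ : Function.Surjective π)
    (hcard : Nat.card ↥π.ker < p) (U B : Subgroup Γ) (hUp : IsPGroup p ↥U) (hUB : U ≤ B) (hne : U ≠ ⊥)
    (hker : π.ker ≤ B) (hBU : ∀ b ∈ B, ∀ u ∈ U, b * u * b⁻¹ ∈ U) (hproper : ∃ g, g ∉ B)
    (hfree : ∀ g ∉ B, ∀ u ∈ U, g⁻¹ * u * g ∈ B → u = 1)
    (htrans : ∀ g g', g ∉ B → g' ∉ B → ∃ u ∈ U, g'⁻¹ * (u * g) ∈ B)
    {F : Type*} [Field F] [Finite F] [CharP F p] (χ : ↥B →* Fˣ) (hχ : ∀ b, χ b = 1 → (b : Γ) ∈ U)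
    (n : Γ) (hn : n ∈ B) (hnp : n ^ (p - 1) ∈ U) (hnc : ∀ u ∈ U, n * u = u * n → u = 1) :
    Nonempty (Crit p M) := by
  classical
  have hp : p.Prime := Fact.out
  have hcop : ∀ a : ℕ, (p ^ a).Coprime (Nat.card ↥π.ker) := fun a =>
    Nat.Coprime.pow_left a ((hp.coprime_iff_not_dvd).2 fun h => absurd (Nat.le_of_dvd Nat.card_pos h) (not_le.2 hcard))
  have hUker : ∀ u ∈ U, π u = 1 → u = 1 := by
    intro u hu h
    obtain ⟨a, ha⟩ := hUp ⟨u, hu⟩
    refine eq_one_of_coprime_pow (hcop a) (congrArg Subtype.val ha) ?_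
    have h2 : (⟨u, h⟩ : ↥π.ker) ^ Nat.card ↥π.ker = 1 := pow_card_eq_one'
    exact congrArg Subtype.val h2
  set Q := U.map π with hQ
  have hQp : IsPGroup p ↥Q := hUp.map π
  obtain ⟨⟨u₁, hu₁⟩, hu₁'⟩ := (U.ne_bot_iff_exists_ne_one).1 hne
  have hu₁1 : u₁ ≠ 1 := fun e => hu₁' (Subtype.ext e)
  -- membership in images
  have hmemB : ∀ {g : Γ}, π g ∈ B.map π → g ∈ B := by
    rintro g ⟨b, hb, e⟩
    have h : b⁻¹ * g ∈ B := hker (by rw [MonoidHom.mem_ker, map_mul, map_inv, e, inv_mul_cancel])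
    simpa using mul_mem hb h
  -- the normaliser
  have hNiff : ∀ g : Γ, π g ∈ normalizer (Q : Set M) ↔ g ∈ B := by
    intro g
    refine ⟨fun h => ?_, fun hg => ?_⟩
    · by_contra hg
      have h1 : π (g * u₁ * g⁻¹) ∈ Q := by
        rw [map_mul, map_mul, map_inv]
        exact (mem_normalizer_iff.1 h _).1 ⟨u₁, hu₁, rfl⟩
      have h2 : g * u₁ * g⁻¹ ∈ B := hmemB (map_mono hUB h1)
      exact hu₁1 (hfree g⁻¹ (fun h => hg (by simpa using inv_mem h)) u₁ hu₁ (by rwa [inv_inv]))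
    · refine mem_normalizer_iff.2 fun x => ⟨?_, fun hx => ?_⟩
      · rintro ⟨u, hu, rfl⟩
        exact ⟨_, hBU g hg u hu, by simp⟩
      · obtain ⟨u, hu, e⟩ := hx
        exact ⟨_, hBU g⁻¹ (inv_mem hg) u hu, by simp [e, mul_assoc]⟩
  have hN : ∀ {x : M}, x ∈ normalizer (Q : Set M) → ∃ b ∈ B, π b = x := by
    intro x hx
    obtain ⟨b, rfl⟩ := hπ x
    exact ⟨b, (hNiff b).1 hx, rfl⟩
  -- the Sylow property
  have hidx : ¬ p ∣ Q.index := by
    obtain ⟨S, hS⟩ := hQp.exists_le_sylow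
    suffices hSQ : (S : Subgroup M) ≤ Q by
      rw [le_antisymm hS hSQ]; exact S.not_dvd_index
    by_contra hle
    haveI := S.isPGroup'.isNilpotent
    have hlt : Q.subgroupOf (S : Subgroup M) < ⊤ :=
      lt_of_le_of_ne le_top fun e => hle (subgroupOf_eq_top.1 e)
    obtain ⟨y, hy, hyQ⟩ := SetLike.exists_of_lt (normalizerCondition_of_isNilpotent _ hlt)
    apply hyQ
    have hyN : (y : M) ∈ normalizer (Q : Set M) := by
      refine mem_normalizer_iff.2 fun x => ⟨fun hx => ?_, fun hx => ?_⟩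
      · exact (mem_normalizer_iff.1 hy ⟨x, hS hx⟩).1 hx
      · have hxS : x ∈ (S : Subgroup M) := by
          simpa [mul_assoc] using mul_mem (mul_mem (inv_mem y.2) (hS hx)) y.2
        exact (mem_normalizer_iff.1 hy ⟨x, hxS⟩).2 hx
    obtain ⟨b, hb, eb⟩ := hN hyN
    obtain ⟨k, hk⟩ := S.isPGroup' y
    have hk' : (y : M) ^ p ^ k = 1 := congrArg Subtype.val hk
    have hz : b ^ p ^ k ∈ π.ker := by rw [MonoidHom.mem_ker, map_pow, eb, hk']
    have hbz : b ^ (p ^ k * Nat.card ↥π.ker) = 1 := by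
      have h2 : (⟨_, hz⟩ : ↥π.ker) ^ Nat.card ↥π.ker = 1 := pow_card_eq_one'
      rw [pow_mul]; exact congrArg Subtype.val h2
    have hc : b ^ Nat.card ↥π.ker ∈ U := by
      have h2 := hχ (⟨b, hb⟩ ^ Nat.card ↥π.ker) (by
        refine units_eq_one_of_pow (k := k) ?_
        rw [map_pow, ← pow_mul, mul_comm, ← map_pow]
        exact (congrArg χ (Subtype.ext hbz : (⟨b, hb⟩ : ↥B) ^ (p ^ k * Nat.card ↥π.ker) = 1)).trans (map_one χ))
      exact h2
    have hyc : (y : M) ^ Nat.card ↥π.ker ∈ Q := ⟨_, hc, by rw [map_pow, eb]⟩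
    obtain ⟨r, hr⟩ := exists_pow_eq_self_of_coprime
      (x := (y : M)) (n := Nat.card ↥π.ker) ((hcop k).symm.coprime_dvd_right (orderOf_dvd_of_pow_eq_one hk'))
    rw [mem_subgroupOf, ← hr]
    exact pow_mem hyc r
  -- the triangle
  obtain ⟨g₀', hg₀'⟩ := hproper
  have hfree' : ∀ g ∉ normalizer (Q : Set M), ∀ x ∈ Q, g⁻¹ * x * g ∈ normalizer (Q : Set M) → x = 1 := by
    intro g hg x hx h
    obtain ⟨g, rfl⟩ := hπ g
    obtain ⟨u, hu, rfl⟩ := hx
    rw [← map_inv, ← map_mul, ← map_mul, hNiff] at h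
    rw [hfree g (fun h' => hg ((hNiff g).2 h')) u hu h, map_one]
  have htrans' : ∀ g g', g ∉ normalizer (Q : Set M) → g' ∉ normalizer (Q : Set M) →
      ∃ u ∈ Q, g'⁻¹ * (u * g) ∈ normalizer (Q : Set M) := by
    intro g g' hg hg'
    obtain ⟨g, rfl⟩ := hπ g
    obtain ⟨g', rfl⟩ := hπ g'
    obtain ⟨u, hu, h⟩ := htrans g g' (fun h' => hg ((hNiff g).2 h')) (fun h' => hg' ((hNiff g').2 h'))
    exact ⟨π u, ⟨u, hu, rfl⟩, by rw [← map_inv, ← map_mul, ← map_mul]; exact (hNiff _).2 h⟩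
  have hQne : Q ≠ ⊥ := fun h => hu₁1 (hUker u₁ hu₁ (mem_bot.1 (h ▸ ⟨u₁, hu₁, rfl⟩ : π u₁ ∈ (⊥ : Subgroup M))))
  have hgen : ∀ g ∉ normalizer (Q : Set M), Q ⊔ cj g Q = ⊤ := by
    intro g hg
    have hall : ∀ h : M, cj h Q ≤ Q ⊔ cj g Q := by
      intro h
      by_cases hh : h ∈ normalizer (Q : Set M)
      · rw [cj_of_normalizer hh]; exact le_sup_left
      obtain ⟨u, hu, hn'⟩ := htrans' g h hg hh
      have e : cj h Q = cj u (cj g Q) := by
        rw [← cj_mul, show u * g = h * (h⁻¹ * (u * g)) by group, cj_mul, cj_of_normalizer hn']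
      rw [e]
      intro x hx
      rw [mem_cj] at hx
      simpa [mul_assoc] using mul_mem (mul_mem (mem_sup_left (T := cj g Q) hu) (mem_sup_right hx))
        (inv_mem (mem_sup_left (T := cj g Q) hu))
    refine top_le_iff.1 (le_trans ?_ (show normalClosure (Q : Set M) ≤ Q ⊔ cj g Q from ?_))
    · refine ge_of_eq ((normalClosure_normal.eq_bot_or_eq_top).resolve_left fun h => ?_)
      exact hQne (le_bot_iff.1 (h ▸ le_normalClosure))
    · rw [normalClosure, closure_le]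
      intro z hz
      obtain ⟨x, hx, hcj⟩ := Group.mem_conjugatesOfSet_iff.1 hz
      obtain ⟨h, rfl⟩ := isConj_iff.1 hcj
      exact hall h (mem_cj.2 (by simpa [mul_assoc] using hx))
  obtain ⟨g₀, T⟩ := tri_rank_one hQne ⟨π g₀', fun h => hg₀' ((hNiff _).1 h)⟩ hfree' htrans' hgen
  -- cyclicity
  obtain ⟨⟨_, d₀, rfl⟩, hd₀⟩ := IsCyclic.exists_generator (α := ↥χ.range)
  refine ⟨⟨Q, hQp, hidx, π n, (hNiff n).2 hn, ⟨_, hnp, map_pow π n _⟩,
    ⟨π d₀, (hNiff _).2 d₀.2, fun x hx => ?_⟩, fun β hβ hβn => ?_⟩⟩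
  · obtain ⟨b, hb, rfl⟩ := hN hx
    obtain ⟨k, hk⟩ := mem_zpowers_iff.1 (hd₀ ⟨χ ⟨b, hb⟩, ⟨_, rfl⟩⟩)
    have hk' : χ d₀ ^ k = χ ⟨b, hb⟩ := congrArg Subtype.val hk
    have h := hχ (⟨b, hb⟩ * (d₀ ^ k)⁻¹) (by rw [map_mul, map_inv, map_zpow, hk', mul_inv_cancel])
    exact ⟨k, _, h, by simp [map_zpow]⟩
  · -- the fixed opposite conjugate
    have hnQ : ∀ w ∈ Q, π n * w * (π n)⁻¹ ∈ Q := fun w hw =>
      (mem_normalizer_iff.1 ((hNiff n).2 hn) w).1 hw
    have hfix : ∀ w ∈ Q, π n * w * (π n)⁻¹ = w → w = 1 := by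
      rintro _ ⟨u, hu, rfl⟩ h
      have h1 : u⁻¹ * (n * u * n⁻¹) = 1 :=
        hUker _ (mul_mem (inv_mem hu) (hBU n hn u hu)) (by
          rw [map_mul, map_inv, map_mul, map_mul, map_inv, h, inv_mul_cancel])
      rw [inv_mul_eq_one, eq_mul_inv_iff_mul_eq] at h1
      rw [hnc u hu h1.symm, map_one]
    have hg₀N : g₀ ∉ normalizer (Q : Set M) := fun h => by
      obtain ⟨⟨q, hq⟩, hq1⟩ := (Q.ne_bot_iff_exists_ne_one).1 hQne
      exact hq1 (Subtype.ext (T.opp q hq (by rw [cj_of_normalizer h]; exact le_normalizer hq)))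
    obtain ⟨u₀, hu₀, hu₀N⟩ := htrans' g₀ (π n * g₀) hg₀N fun h => hg₀N (by
      simpa using mul_mem (inv_mem ((hNiff n).2 hn)) h)
    -- the map `w ↦ n w⁻¹ n⁻¹ w`
    let f : ↥Q → ↥Q := fun w => ⟨π n * (w : M)⁻¹ * (π n)⁻¹ * w, mul_mem (hnQ _ (inv_mem w.2)) w.2⟩
    have hf : Function.Injective f := by
      intro w v h
      have h1 : π n * (w : M)⁻¹ * (π n)⁻¹ * w = π n * (v : M)⁻¹ * (π n)⁻¹ * v := congrArg Subtype.val h
      have h2 : π n * ((v : M) * (w : M)⁻¹) * (π n)⁻¹ = v * (w : M)⁻¹ := by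
        calc π n * ((v : M) * (w : M)⁻¹) * (π n)⁻¹
            = π n * v * (π n)⁻¹ * (π n * (w : M)⁻¹ * (π n)⁻¹ * w) * (w : M)⁻¹ := by group
          _ = _ := by rw [h1]; group
      exact Subtype.ext (mul_inv_eq_one.1 (hfix _ (mul_mem v.2 (inv_mem w.2)) h2)).symm
    obtain ⟨⟨u, hu⟩, hfu⟩ := (Finite.injective_iff_surjective.1 hf) ⟨u₀, hu₀⟩
    have hfu' : π n * u⁻¹ * (π n)⁻¹ * u = u₀ := congrArg Subtype.val hfu
    have hng : cj (π n) (cj (u * g₀) Q) = cj (u * g₀) Q := by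
      rw [← cj_mul, show π n * (u * g₀) = π n * u * (π n)⁻¹ * (π n * g₀) by group, cj_mul,
        show π n * g₀ = u₀ * g₀ * ((π n * g₀)⁻¹ * (u₀ * g₀))⁻¹ by group,
        cj_mul (u₀ * g₀), cj_of_normalizer (inv_mem hu₀N), ← cj_mul, ← hfu']
      congr 1
      group
    have huniq : ∀ v ∈ Q, cj (π n) (cj (v * g₀) Q) = cj (v * g₀) Q → v = u := by
      intro v hv h
      have h1 : cj (π n * v * (π n)⁻¹ * u₀ * g₀) Q = cj (v * g₀) Q := by
        rw [← h, ← cj_mul, show π n * (v * g₀) = π n * v * (π n)⁻¹ * (π n * g₀) by group, cj_mul _ (π n * g₀),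
          show π n * g₀ = u₀ * g₀ * ((π n * g₀)⁻¹ * (u₀ * g₀))⁻¹ by group,
          cj_mul (u₀ * g₀), cj_of_normalizer (inv_mem hu₀N), ← cj_mul]
        congr 1
        group
      have h2 := T.opp (v⁻¹ * (π n * v * (π n)⁻¹ * u₀)) (mul_mem (inv_mem hv) (mul_mem (hnQ v hv) hu₀))
        (mem_normalizer_of_cj (by
          rw [← cj_mul, show v⁻¹ * (π n * v * (π n)⁻¹ * u₀) * g₀ = v⁻¹ * (π n * v * (π n)⁻¹ * u₀ * g₀) by group,
            cj_mul, h1, ← cj_mul, inv_mul_cancel_left]))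
      rw [← hfu'] at h2
      have h3 : π n * (v * u⁻¹) * (π n)⁻¹ = v * u⁻¹ := by
        calc π n * (v * u⁻¹) * (π n)⁻¹
            = v * (v⁻¹ * (π n * v * (π n)⁻¹ * (π n * u⁻¹ * (π n)⁻¹ * u))) * u⁻¹ := by group
          _ = _ := by rw [h2, mul_one]
      exact mul_inv_eq_one.1 (hfix _ (mul_mem hv (inv_mem hu)) h3)
    -- `β` fixes it
    have hopp : Opp Q (β (u * g₀)) := by
      intro w hw hwn
      have hb : cj (β (w * (u * g₀))) Q = cj (β (u * g₀)) Q := by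
        rw [map_mul, hβ w hw, cj_mul, cj_of_normalizer hwn]
      rw [← map_cj β hβ, ← map_cj β hβ] at hb
      have hb' := (Subgroup.map_injective β.injective) hb
      have hw' : w ∈ normalizer (cj (u * g₀) Q : Set M) := mem_normalizer_of_cj (by rw [← cj_mul]; exact hb')
      have := T.opp (u⁻¹ * w * u) (mul_mem (mul_mem (inv_mem hu) hw) hu) (mem_normalizer_of_cj (by
        rw [← cj_mul, show u⁻¹ * w * u * g₀ = u⁻¹ * (w * (u * g₀)) by group, cj_mul, hb', ← cj_mul,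
          inv_mul_cancel_left]))
      simpa [mul_assoc] using congrArg (fun x => u * x * u⁻¹) this
    obtain ⟨v, hv, ev⟩ := T.trans _ hopp
    have hvu : v = u := huniq v hv (by
      rw [← ev, ← cj_mul, ← hβn, ← map_mul, ← map_cj β hβ, ← map_cj β hβ, cj_mul, hng])
    set τ : MulAut M := MulAut.conj u⁻¹ * β * MulAut.conj u with hτ
    have hτ1 : ∀ x, τ x = u⁻¹ * β (u * x * u⁻¹) * u := fun x => by
      simp [hτ, MulAut.mul_apply]
    have hτfix : ∀ x ∈ Q, τ x = x := fun x hx => by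
      rw [hτ1, hβ _ (mul_mem (mul_mem hu hx) (inv_mem hu))]; group
    have hτg : cj (τ g₀) Q = cj g₀ Q := by
      rw [hτ1, cj_mul, cj_of_normalizer (le_normalizer hu), cj_mul, map_mul, map_inv, hβ u hu,
        cj_mul _ u⁻¹, cj_of_normalizer (le_normalizer (inv_mem hu)), ev, hvu, ← cj_mul, inv_mul_cancel_left]
    have h := eq_one_of_fixed T.opp T.opp' T.trans T.third T.gen τ hτfix hτg
    calc β = (MulAut.conj u⁻¹)⁻¹ * τ * (MulAut.conj u)⁻¹ := by rw [hτ]; group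
      _ = 1 := by rw [h, mul_one, ← mul_inv_rev, ← map_mul, mul_inv_cancel, map_one, inv_one]

end Cfsg.Agent.PMinimalCentre
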