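import Cfsg.Agent.Lib.PMinimalCentre.Crit
import Cfsg.Agent.Lib.PSL2.Soluble
import Mathlib.LinearAlgebra.Matrix.SpecialLinearGroup
import Mathlib.RingTheory.RootsOfUnity.Basic

/-!
# The criterion for `PSL₂`
-/

set_option autoImplicit false
set_option linter.unusedSectionVars false

namespace Cfsg.Agent.PMinimalCentre

open Subgroup Matrix

variable (F : Type*) [Field F] [Fintype F] (p : ℕ) [Fact p.Prime] [CharP F p]

local notation "SL₂" => SpecialLinearGroup (Fin 2) F

/-- The upper triangular matrices. -/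
def upperSub : Subgroup SL₂ where
  carrier := {g | g.1 1 0 = 0}
  one_mem' := by simp
  mul_mem' := by
    intro g h hg hh
    simp only [Set.mem_setOf_eq] at *
    simp [Matrix.mul_apply, Fin.sum_univ_two, hg, hh]
  inv_mem' := by
    intro g hg
    simp only [Set.mem_setOf_eq] at *
    simp [Matrix.SpecialLinearGroup.coe_inv, Matrix.adjugate_fin_two, hg]

variable {F}

theorem mem_upperSub {g : SL₂} : g ∈ upperSub F ↔ g.1 1 0 = 0 := Iff.rfl

/-- The torus element `diag (2, 2⁻¹)`. -/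
def torus2 (h : (2 : F) ≠ 0) : SL₂ := ⟨!![2, 0; 0, 2⁻¹], by simp [Matrix.det_fin_two, h]⟩

@[simp] theorem torus2_val (h : (2 : F) ≠ 0) :
    (torus2 h : Matrix (Fin 2) (Fin 2) F) = Matrix.diagonal ![2, 2⁻¹] := by
  ext i j; fin_cases i <;> fin_cases j <;> simp [torus2]

theorem upper_det {g : SL₂} (hg : g ∈ upperSub F) : g.1 0 0 * g.1 1 1 = 1 := by
  have h := g.2
  rw [Matrix.det_fin_two, mem_upperSub.1 hg, mul_zero, sub_zero] at h
  exact h

/-- The first diagonal entry. -/
def upperChar : ↥(upperSub F) →* Fˣ where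
  toFun g := Units.mkOfMulEqOne _ _ (upper_det g.2)
  map_one' := Units.ext (by simp)
  map_mul' g h := Units.ext (by simp [Matrix.mul_apply, Fin.sum_univ_two, mem_upperSub.1 h.2])

/-- An element of the unipotent group. -/
def upUni (t : F) : SL₂ := ⟨!![1, t; 0, 1], by simp [Matrix.det_fin_two]⟩

@[simp] theorem upUni_val (t : F) : (upUni t : Matrix (Fin 2) (Fin 2) F) = !![1, t; 0, 1] := rfl

theorem upUni_zero : upUni (0 : F) = 1 := by
  refine Matrix.SpecialLinearGroup.ext _ _ fun i j => ?_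
  fin_cases i <;> fin_cases j <;> simp

theorem upUni_mul (s t : F) : upUni s * upUni t = upUni (s + t) := by
  refine Matrix.SpecialLinearGroup.ext _ _ fun i j => ?_
  rw [Matrix.SpecialLinearGroup.coe_mul, upUni_val, upUni_val, upUni_val]
  fin_cases i <;> fin_cases j <;> simp [Matrix.mul_apply, Fin.sum_univ_two, add_comm]

variable (F)

/-- The unipotent upper triangular matrices. -/
def unipSub : Subgroup SL₂ := (upperChar (F := F)).ker.map (upperSub F).subtype

variable {F}

theorem mem_unipSub {g : SL₂} : g ∈ unipSub F ↔ ∃ t, g = upUni t := by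
  constructor
  · rintro ⟨b, hb, rfl⟩
    refine ⟨b.1.1 0 1, ?_⟩
    have h00 : b.1.1 0 0 = 1 := congrArg Units.val (MonoidHom.mem_ker.1 hb)
    have h11 : b.1.1 1 1 = 1 := by simpa [h00] using upper_det b.2
    refine Matrix.SpecialLinearGroup.ext _ _ fun i j => ?_
    fin_cases i <;> fin_cases j <;> simp [h00, h11, mem_upperSub.1 b.2]
  · rintro ⟨t, rfl⟩
    exact ⟨⟨upUni t, mem_upperSub.2 (by simp [upUni])⟩, MonoidHom.mem_ker.2 (Units.ext (by simp [upperChar, upUni])), rfl⟩

theorem card_center_psl : Nat.card ↥(center SL₂) ≤ 2 := by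
  haveI : NeZero (max (Fintype.card (Fin 2)) 1) := ⟨by simp⟩
  rw [Nat.card_congr Matrix.SpecialLinearGroup.center_equiv_rootsOfUnity.toEquiv]
  exact le_trans (card_rootsOfUnity ..) (by simp)

set_option maxHeartbeats 1000000 in
theorem crit_psl (hp5 : 5 ≤ p) (h4 : 4 ≤ Fintype.card F) :
    Nonempty (Crit p (ProjectiveSpecialLinearGroup (Fin 2) F)) := by
  classical
  have hp : p.Prime := Fact.out
  haveI : IsSimpleGroup (ProjectiveSpecialLinearGroup (Fin 2) F) :=
    PSL2.isSimpleGroup_psl (by rw [Nat.card_eq_fintype_card]; exact h4)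
  have hnat : ∀ m : ℕ, 0 < m → m < p → (m : F) ≠ 0 := fun m h0 hm h =>
    absurd (Nat.le_of_dvd h0 ((CharP.cast_eq_zero_iff F p m).1 h)) (not_le.2 hm)
  have h2 : (2 : F) ≠ 0 := by exact_mod_cast hnat 2 two_pos (by omega)
  have h3 : (3 : F) ≠ 0 := by exact_mod_cast hnat 3 (by norm_num) (by omega)
  refine crit_of_data (QuotientGroup.mk' (center SL₂)) (QuotientGroup.mk'_surjective _) ?_ (unipSub F) (upperSub F)
    ?_ ?_ ?_ ?_ ?_ ?_ ?_ ?_ (upperChar (F := F)) (fun b hb => ⟨b, hb, rfl⟩)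
    (torus2 h2) (mem_upperSub.2 (by simp)) ?_ ?_
  · rw [QuotientGroup.ker_mk']
    exact lt_of_le_of_lt card_center_psl (by omega)
  · rintro ⟨g, hg⟩
    obtain ⟨t, rfl⟩ := mem_unipSub.1 hg
    refine ⟨1, Subtype.ext ?_⟩
    have h : ∀ k : ℕ, upUni t ^ k = upUni (k • t) := by
      intro k
      induction k with
      | zero => rw [pow_zero, zero_nsmul, upUni_zero]
      | succ k ih => rw [pow_succ, ih, upUni_mul, succ_nsmul]
    rw [SubmonoidClass.coe_pow, pow_one, h, nsmul_eq_mul, CharP.cast_eq_zero, zero_mul, upUni_zero]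
    rfl
  · intro g hg
    obtain ⟨t, rfl⟩ := mem_unipSub.1 hg
    exact mem_upperSub.2 (by simp [upUni])
  · intro h
    have h1 : upUni (1 : F) ∈ (⊥ : Subgroup SL₂) := h ▸ mem_unipSub.2 ⟨1, rfl⟩
    have := congrArg (fun g : SL₂ => g.1 0 1) (mem_bot.1 h1)
    simp [upUni] at this
  · rw [QuotientGroup.ker_mk']
    intro z hz
    obtain ⟨r, -, hr⟩ := Matrix.SpecialLinearGroup.mem_center_iff.1 hz
    rw [mem_upperSub, ← hr]
    simp
  · rintro b hb _ ⟨u, hu, rfl⟩
    refine ⟨⟨b, hb⟩ * u * ⟨b, hb⟩⁻¹, ?_, rfl⟩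
    exact (MonoidHom.normal_ker _).conj_mem u hu _
  · exact ⟨⟨!![0, -1; 1, 0], by simp [Matrix.det_fin_two]⟩, fun h => one_ne_zero (α := F) (by simpa using mem_upperSub.1 h)⟩
  · intro g hg u hu h
    obtain ⟨t, rfl⟩ := mem_unipSub.1 hu
    rw [mem_upperSub] at h hg
    simp [Matrix.SpecialLinearGroup.coe_inv, Matrix.adjugate_fin_two, Matrix.mul_apply, Fin.sum_univ_two, Matrix.vecMul, dotProduct] at h
    have ht : t = 0 := by
      have h' : g.1 1 0 * g.1 1 0 * t = 0 := by linear_combination -h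
      simpa [hg] using h'
    rw [ht, upUni_zero]
  · intro g g' hg hg'
    rw [mem_upperSub] at hg hg'
    refine ⟨upUni ((g'.1 0 0 * g.1 1 0 - g'.1 1 0 * g.1 0 0) / (g'.1 1 0 * g.1 1 0)), mem_unipSub.2 ⟨_, rfl⟩, ?_⟩
    rw [mem_upperSub]
    simp [Matrix.SpecialLinearGroup.coe_inv, Matrix.adjugate_fin_two, Matrix.mul_apply, Fin.sum_univ_two,
      Matrix.vecMul, dotProduct]
    field_simp
    ring
  · refine mem_unipSub.2 ⟨0, ?_⟩
    have hf : (2 : F) ^ (p - 1) = 1 := by
      have h2' : (2 : ZMod p) ≠ 0 := fun h => h2 (by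
        have := congrArg (ZMod.castHom (dvd_refl p) F) h
        rwa [map_ofNat, map_zero] at this)
      have := congrArg (ZMod.castHom (dvd_refl p) F) (ZMod.pow_card_sub_one_eq_one h2')
      rwa [map_pow, map_one, map_ofNat] at this
    refine Matrix.SpecialLinearGroup.ext _ _ fun i j => ?_
    rw [Matrix.SpecialLinearGroup.coe_pow, torus2_val, Matrix.diagonal_pow, upUni_val]
    fin_cases i <;> fin_cases j <;> simp [hf]
  · intro u hu h
    obtain ⟨t, rfl⟩ := mem_unipSub.1 hu
    have h1 := congrArg (fun g : SL₂ => g.1 0 1) h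
    simp [Matrix.mul_apply, Fin.sum_univ_two, Matrix.vecMul, dotProduct] at h1
    have ht : t = 0 := by
      have h' : (3 : F) * t = 0 := by
        field_simp at h1
        linear_combination h1
      simpa [h3] using h'
    rw [ht, upUni_zero]

end Cfsg.Agent.PMinimalCentre
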