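import Cfsg.Agent.Lib.PMinimalCentre.Crit
import Cfsg.Agent.Lib.AutPSU.Coord

/-!
# The criterion for `PSU₃`
-/

set_option autoImplicit false
set_option linter.unusedSectionVars false

namespace Cfsg.Agent.PMinimalCentre

open Cfsg.Agent.Unitary Cfsg.Agent.AutPSU
open scoped Matrix

variable {F : Type*} [Field F] [Fintype F] {q : ℕ} (hF : Fintype.card F = q ^ 2) (Fr : UFrame 1 F q)

local notation "Γ₃" => Cfsg.SU (2 + 1) F q
local notation "hm" => Cfsg.hermForm (2 + 1) F q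
local notation "Qe" => qGroup (q := q) Fr.e

/-- The stabiliser of the first point of the frame. -/
noncomputable def lineStab : Subgroup Γ₃ := MulAction.stabilizer Γ₃ (Fr.pe hF)

theorem mem_lineStab {g : Γ₃} : g ∈ lineStab hF Fr ↔ ∃ c : F, c • Fr.e = suAct g Fr.e := by
  rw [lineStab, MulAction.mem_stabilizer_iff, Fr.smul_pe_iff hF]

include hF

theorem scalar_ne_zero {g : Γ₃} {c : F} (hc : c • Fr.e = suAct g Fr.e) : c ≠ 0 := fun h0 =>
  suAct_ne_zero g (Fr.e_ne_zero hF) (by rw [← hc, h0, zero_smul])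

theorem scalar_eq {g : Γ₃} {c : F} (hc : c • Fr.e = suAct g Fr.e) : hm (suAct g Fr.e) Fr.f = c := by
  rw [← hc, (hermForm_isHerm hF _).smul_left, Fr.ef, mul_one]

/-- The scalar on the first vector. -/
noncomputable def lineChar : ↥(lineStab hF Fr) →* Fˣ :=
  MonoidHom.toHomUnits
    { toFun := fun g => hm (suAct g.1 Fr.e) Fr.f
      map_one' := by
        show hm (suAct (1 : Γ₃) Fr.e) Fr.f = 1
        rw [suAct_one, Fr.ef]
      map_mul' := fun g h => by
        obtain ⟨a, ha⟩ := (mem_lineStab hF Fr).1 g.2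
        obtain ⟨b, hb⟩ := (mem_lineStab hF Fr).1 h.2
        have hab : (b * a) • Fr.e = suAct (g.1 * h.1) Fr.e := by
          rw [suAct_mul, ← hb, suAct_smul, ← ha, smul_smul]
        show hm (suAct (g.1 * h.1) Fr.e) Fr.f = hm (suAct g.1 Fr.e) Fr.f * hm (suAct h.1 Fr.e) Fr.f
        rw [scalar_eq hF Fr hab, scalar_eq hF Fr ha, scalar_eq hF Fr hb, mul_comm] }

/-- An element fixing the first vector lies in its unipotent radical. -/
theorem mem_qe_of_fix {g : Γ₃} (hg : suAct g Fr.e = Fr.e) : g ∈ Qe := by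
  have H := hermForm_isHerm hF (2 + 1)
  obtain ⟨u, hu, huf⟩ := Fr.exists_q_move hF (v := suAct g Fr.f)
    (by rw [suAct_herm, Fr.ff]) (by conv_lhs => rw [← hg]
                                    rw [suAct_herm, Fr.fe hF])
  set k := u⁻¹ * g with hk
  have hke : suAct k Fr.e = Fr.e := by
    rw [hk, suAct_mul, hg]; exact (inv_mem hu).1
  have hkf : suAct k Fr.f = Fr.f := by rw [hk, suAct_mul, ← huf, suAct_inv_suAct]
  set γ := hm (suAct k (Fr.b 0)) (Fr.b 0) with hγ
  have hkb : suAct k (Fr.b 0) = γ • Fr.b 0 := by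
    have h1 : hm (suAct k (Fr.b 0)) Fr.e = 0 := by
      conv_lhs => rw [← hke]
      rw [suAct_herm, Fr.be]
    have h2 : hm (suAct k (Fr.b 0)) Fr.f = 0 := by
      conv_lhs => rw [← hkf]
      rw [suAct_herm, Fr.bf]
    conv_lhs => rw [Fr.decomp hF (suAct k (Fr.b 0)), h1, h2, zero_smul, zero_smul, zero_add, zero_add]
    simp [UFrame.emb, UFrame.wco, hγ]
  let D : Fin (2 + 1) → F := Fin.append ![(1 : F), 1] fun _ => γ
  have hfam : ∀ i, suAct k (Fr.fam i) = D i • Fr.fam i := by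
    intro i
    refine Fin.addCases (fun i => ?_) (fun i => ?_) i
    · have hD : D (Fin.castAdd 1 i) = 1 := by
        show Fin.append ![(1 : F), 1] _ (Fin.castAdd 1 i) = 1
        rw [Fin.append_left]; fin_cases i <;> rfl
      rw [hD, one_smul]
      obtain rfl | rfl : i = 0 ∨ i = 1 := by fin_cases i <;> simp
      · rw [Fr.fam_e hF, hke]
      · rw [Fr.fam_f hF, hkf]
    · rw [show D (Fin.natAdd 2 i) = γ from Fin.append_right _ _ i, Fr.fam_b, Fin.fin_one_eq_zero i, hkb]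
  let P : Matrix (Fin (2 + 1)) (Fin (2 + 1)) F := Matrix.of fun i j => Fr.fam j i
  have hP : P.det ≠ 0 := by
    have : IsUnit P := Matrix.linearIndependent_cols_iff_isUnit.1 (Fr.linearIndependent_fam hF)
    exact ((Matrix.isUnit_iff_isUnit_det P).1 this).ne_zero
  have hkP : ((k : Matrix.SpecialLinearGroup (Fin (2 + 1)) F) : Matrix _ _ F) * P = P * Matrix.diagonal D := by
    ext i j
    have h1 := congrFun (hfam j) i
    rw [Pi.smul_apply, smul_eq_mul, mul_comm] at h1
    rw [Matrix.mul_diagonal, Matrix.mul_apply]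
    exact h1
  have hγ1 : γ = 1 := by
    have h2 := congrArg Matrix.det hkP
    have hdk : Matrix.det ((k : Matrix.SpecialLinearGroup (Fin (2 + 1)) F) : Matrix (Fin (2 + 1)) (Fin (2 + 1)) F) = 1 :=
      Matrix.SpecialLinearGroup.det_coe _
    rw [Matrix.det_mul, Matrix.det_mul, Matrix.det_diagonal, hdk, one_mul] at h2
    have h3 : ∏ i, D i = 1 := mul_left_cancel₀ hP (by rw [mul_one]; exact h2.symm)
    rw [Fin.prod_univ_add] at h3
    simpa [D, Fin.prod_univ_two, Fin.append_left, Fin.append_right] using h3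
  have hk1 : k = 1 := suAct_ext fun x => by
    rw [Fr.decomp hF x, suAct_one]
    simp only [suAct_add, suAct_smul, hke, hkf, UFrame.emb, Fin.sum_univ_one, hkb, hγ1, one_smul]
  rw [show g = u from (inv_mul_eq_one.1 (hk ▸ hk1)).symm]
  exact hu

/-- The points off the first one. -/
theorem exists_qe_move {g : Γ₃} (hg : g ∉ lineStab hF Fr) :
    ∃ β : F, β ≠ 0 ∧ ∃ u ∈ Qe, suAct g Fr.e = β • suAct u Fr.f := by
  have H := hermForm_isHerm hF (2 + 1)
  set v := suAct g Fr.e with hv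
  have hvv : hm v v = 0 := by rw [hv, suAct_herm, Fr.ee]
  set β := hm v Fr.e with hβ
  have hβ0 : β ≠ 0 := by
    intro h0
    apply hg
    have hdec : v = hm v Fr.f • Fr.e + Fr.emb (Fr.wco v) := by
      conv_lhs => rw [Fr.decomp hF v, ← hβ, h0, zero_smul, add_zero]
    have h1 : Cfsg.hermForm 1 F q (Fr.wco v) (Fr.wco v) = 0 := by
      rw [← hvv]
      conv_rhs => rw [hdec]
      simp only [H.add_left, H.add_right hF, H.smul_left, H.smul_right, Fr.ee, Fr.e_emb hF, Fr.emb_e hF,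
        Fr.emb_herm hF]
      ring
    have h2 : Fr.wco v = 0 := by
      funext i
      rw [Cfsg.hermForm, Fin.sum_univ_one, ← pow_succ'] at h1
      rw [Fin.fin_one_eq_zero i]
      exact (pow_eq_zero_iff (Nat.succ_ne_zero q)).1 h1
    rw [h2, Fr.emb_zero, add_zero] at hdec
    exact (mem_lineStab hF Fr).2 ⟨_, hdec.symm⟩
  obtain ⟨u, hu, huv⟩ := Fr.exists_q_move hF (v := β⁻¹ • v)
    (by rw [H.smul_left, H.smul_right, hvv]; ring)
    (by rw [H.smul_left, ← hβ, inv_mul_cancel₀ hβ0])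
  exact ⟨β, hβ0, u, hu, by rw [huv, smul_inv_smul₀ hβ0]⟩

variable {p : ℕ} [Fact p.Prime] [CharP F p]

set_option maxHeartbeats 1000000 in
theorem crit_psu (hp5 : 5 ≤ p) {a : ℕ} (ha : 1 ≤ a) (hq : q = p ^ a) :
    Nonempty (Crit p (Cfsg.PSU (2 + 1) F q)) := by
  classical
  obtain ⟨Fr⟩ := exists_uframe (d := 1) hF
  have hp : p.Prime := Fact.out
  have hq3 : 3 ≤ q := by
    have := Nat.le_self_pow (Nat.one_le_iff_ne_zero.1 ha) p
    omega
  haveI : IsSimpleGroup (Cfsg.PSU (2 + 1) F q) := isSimpleGroup_PSU hF (Or.inr ⟨rfl, hq3⟩)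
  have hnat : ∀ m : ℕ, 0 < m → m < p → (m : F) ≠ 0 := fun m h0 hlt h =>
    absurd (Nat.le_of_dvd h0 ((CharP.cast_eq_zero_iff F p m).1 h)) (not_le.2 hlt)
  have h2 : (2 : F) ≠ 0 := by exact_mod_cast hnat 2 two_pos (by omega)
  have h3 : (3 : F) ≠ 0 := by exact_mod_cast hnat 3 (by norm_num) (by omega)
  have h2p : (2 : F) ^ p = 2 := by
    have := congrArg (ZMod.castHom (dvd_refl p) F) (ZMod.pow_card (2 : ZMod p))
    rwa [map_pow, map_ofNat] at this
  have h2q : (2 : F) ^ q = 2 := by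
    rw [hq]
    clear ha hq
    induction a with
    | zero => rw [pow_zero, pow_one]
    | succ a ih => rw [pow_succ, pow_mul, ih, h2p]
  have h2p1 : (2 : F) ^ (p - 1) = 1 := by
    refine mul_right_cancel₀ h2 ?_
    rw [← pow_succ, one_mul, Nat.sub_add_cancel hp.one_le, h2p]
  obtain ⟨δ, hδ0, hδ⟩ := exists_skew hF
  have hδ' : δ + δ ^ q = 0 := by rw [hδ, add_neg_cancel]
  obtain ⟨n, hn⟩ := Fr.exists_lev_diag hF (l := 2) h2 (fun _ => 1) (fun _ => one_pow _)
    (by rw [Finset.prod_const_one, mul_one, h2q])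
  have hne : ∀ m : ℕ, suAct (n ^ m) Fr.e = (2 : F) ^ m • Fr.e := by
    intro m
    induction m with
    | zero => simp
    | succ m ih => rw [pow_succ', suAct_mul, ih, suAct_smul, hn.2.1, smul_smul, pow_succ]
  refine crit_of_data (cl (2 + 1) F q) cl_surjective ?_ (qGroup (q := q) Fr.e) (lineStab hF Fr) (isPGroup_qGroup hF (Fr.e_ne_zero hF) Fr.ee)
    ?_ ?_ ?_ ?_ ?_ ?_ ?_ (lineChar hF Fr) ?_ n ((mem_lineStab hF Fr).2 ⟨2, hn.2.1.symm⟩) ?_ ?_
  · rw [show (cl (2 + 1) F q).ker = Subgroup.center Γ₃ from QuotientGroup.ker_mk' _, card_center_SU hF (by omega)]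
    have := Nat.le_of_dvd (by omega) (Nat.gcd_dvd_left (2 + 1) (q + 1))
    omega
  · intro g hg
    exact (mem_lineStab hF Fr).2 ⟨1, by rw [one_smul, hg.1]⟩
  · intro h
    obtain ⟨t1, -, -⟩ := Fr.transv_mem hF δ hδ'
    exact suTransvection_ne_one hF (Fr.e_ne_zero hF) Fr.ee hδ' hδ0 (Subgroup.mem_bot.1 (h ▸ t1))
  · rw [show (cl (2 + 1) F q).ker = Subgroup.center Γ₃ from QuotientGroup.ker_mk' _]
    intro z hz
    exact UFrame.center_smul hF le_rfl hz _
  · intro b hb u hu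
    obtain ⟨c, hc⟩ := (mem_lineStab hF Fr).1 hb
    exact ((Subgroup.mem_normalizer_iff.1 (le_normalizer_qGroup (scalar_ne_zero hF Fr hc) hc.symm)) u).1 hu
  · refine ⟨suTransvection hF Fr.f Fr.ff δ hδ', fun h => ?_⟩
    obtain ⟨c, hc⟩ := (mem_lineStab hF Fr).1 h
    rw [suAct_suTransvection, Fr.ef, mul_one] at hc
    have h1 := congrArg (fun x => hm x Fr.e) hc
    simp only [(hermForm_isHerm hF (2 + 1)).smul_left, (hermForm_isHerm hF (2 + 1)).add_left, Fr.ee, Fr.fe hF,
      mul_zero, mul_one, zero_add] at h1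
    exact hδ0 h1.symm
  · intro g hg u hu h
    obtain ⟨c, hc⟩ := (mem_lineStab hF Fr).1 h
    obtain ⟨β, hβ0, w, hw, hgw⟩ := exists_qe_move hF Fr hg
    set k := w⁻¹ * u * w with hk
    have hkQ : k ∈ (qGroup (q := q) Fr.e) := mul_mem (mul_mem (inv_mem hw) hu) hw
    have hkf : suAct k Fr.f = c • Fr.f := by
      have h1 : suAct u (suAct g Fr.e) = c • suAct g Fr.e := by
        rw [← suAct_mul, ← suAct_smul, hc, ← suAct_mul]
        congr 1
        group
      rw [hgw, suAct_smul, smul_comm c β] at h1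
      have h2 := (smul_right_injective _ hβ0) h1
      rw [hk, suAct_mul, suAct_mul, h2, suAct_smul, suAct_inv_suAct]
    have hc1 : c = 1 := by
      have h1 : hm (suAct k Fr.f) Fr.e = 1 := by
        conv_lhs => rw [← hkQ.1]
        rw [suAct_herm, Fr.fe hF]
      rwa [hkf, (hermForm_isHerm hF (2 + 1)).smul_left, Fr.fe hF, mul_one] at h1
    rw [hc1, one_smul] at hkf
    have hk1 : k = 1 := Fr.qGroup_ext hF hkQ (one_mem _) (by rw [UFrame.wc, UFrame.wc, hkf, suAct_one])
      (by rw [UFrame.ec, UFrame.ec, hkf, suAct_one])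
    calc u = w * k * w⁻¹ := by rw [hk]; group
      _ = 1 := by rw [hk1]; group
  · intro g g' hg hg'
    obtain ⟨β, hβ0, w, hw, hgw⟩ := exists_qe_move hF Fr hg
    obtain ⟨β', hβ0', w', hw', hgw'⟩ := exists_qe_move hF Fr hg'
    refine ⟨w' * w⁻¹, mul_mem hw' (inv_mem hw), (mem_lineStab hF Fr).2 ⟨β / β', ?_⟩⟩
    rw [suAct_mul, suAct_mul, suAct_mul, hgw, suAct_smul, suAct_inv_suAct, suAct_smul]
    have h1 : suAct g'⁻¹ (suAct g' Fr.e) = suAct g'⁻¹ (β' • suAct w' Fr.f) := by rw [hgw']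
    rw [suAct_inv_suAct, suAct_smul] at h1
    rw [suAct_smul]
    conv_lhs => rw [h1]
    rw [smul_smul, div_mul_cancel₀ _ hβ0']
  · intro b hb
    obtain ⟨c, hc⟩ := (mem_lineStab hF Fr).1 b.2
    have h1 : hm (suAct (b : Γ₃) Fr.e) Fr.f = 1 := congrArg Units.val hb
    rw [scalar_eq hF Fr hc] at h1
    rw [h1, one_smul] at hc
    exact mem_qe_of_fix hF Fr hc.symm
  · exact mem_qe_of_fix hF Fr (by rw [hne, h2p1, one_smul])
  · intro u hu h
    obtain ⟨-, hwc, hec⟩ := Fr.isLev_conj hF hn hu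
    rw [show n * u * n⁻¹ = u by rw [h, mul_inv_cancel_right]] at hwc hec
    rw [Matrix.diagonal_one, Matrix.one_mulVec, h2q] at hwc
    rw [pow_succ, h2q] at hec
    have hw0 : Fr.wc u = 0 := by
      funext i
      have := congrFun hwc i
      simp only [Pi.smul_apply, smul_eq_mul] at this
      simp only [Pi.zero_apply]
      linear_combination -this
    have he0 : Fr.ec u = 0 := by
      have h' : (3 : F) * Fr.ec u = 0 := by linear_combination -hec
      exact (mul_eq_zero.1 h').resolve_left h3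
    exact Fr.qGroup_ext hF hu (one_mem _) (by rw [hw0, Fr.wc_one hF]) (by rw [he0, Fr.ec_one hF])

end Cfsg.Agent.PMinimalCentre
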