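import Cfsg.Agent.Lib.PMinimalCentre.Linear
import Cfsg.Agent.Lib.PMinimalCentre.Unitary
import Cfsg.Agent.Lib.Cores.Basic
import Cfsg.Agent.Lib.PReduced.Tools

/-!
# The centre of the normaliser of a Sylow subgroup, residual of rank one

* `eq_one_of_commute_normalizer` : with `O_p(X) = 1` and rank one residual, an element of a Sylow subgroup centralising
  its normaliser is trivial.
-/

set_option autoImplicit false
set_option linter.unusedSectionVars false

namespace Cfsg.Agent.PMinimalCentre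

open Subgroup

variable {p : ℕ} [Fact p.Prime]

/-- A permutation of `p`-power order of fewer than `p` points is trivial. -/
theorem perm_eq_one {W : Type*} [Finite W] (hW : Nat.card W < p) {σ : Equiv.Perm W} {a : ℕ}
    (h : σ ^ p ^ a = 1) : σ = 1 := by
  have hp : p.Prime := Fact.out
  have h2 : orderOf σ ∣ Nat.factorial (Nat.card W) := by
    rw [← Nat.card_perm]; exact orderOf_dvd_natCard σ
  exact orderOf_eq_one_iff.1 (Nat.eq_one_of_dvd_coprimes
    (Nat.Coprime.pow_left a ((hp.coprime_iff_not_dvd).2 fun h => absurd ((hp.dvd_factorial).1 h) (not_le.2 hW)))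
    (orderOf_dvd_of_pow_eq_one h) h2)

variable {X : Type*} [Group X] [Finite X] {M : Type*} [Group M] [Finite M]

set_option maxHeartbeats 1000000 in
theorem eq_one_of_commute_normalizer {E : Subgroup X} [hEn : E.Normal] (T : Sylow p X)
    (hsup : E ⊔ (T : Subgroup X) = ⊤) (hcore : Cfsg.pCore p X = ⊥) (C : Crit p M) (ψ₀ : ↥E →* M)
    (hψ₀ : Function.Surjective ψ₀) (hcent : ψ₀.ker ≤ center ↥E)
    (hchar : ∀ (φ : MulAut ↥E) (x : ↥E), ψ₀ x = 1 → ψ₀ (φ x) = 1) (hcard : Nat.card ↥ψ₀.ker < p)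
    {y : X} (hy : y ∈ (T : Subgroup X))
    (hcomm : ∀ g ∈ normalizer ((T : Subgroup X) : Set X), g * y = y * g) : y = 1 := by
  classical
  have hp : p.Prime := Fact.out
  -- adjust the map so that the Sylow subgroup goes to `C.Q`
  set U := (T : Subgroup X).subgroupOf E with hU
  let TE : Sylow p ↥E := PReduced.sylowOfSubnormal T hEn.isSubnormal
  obtain ⟨m, hm⟩ := MulAction.exists_smul_eq M (TE.mapSurjective hψ₀) (C.pgrp.toSylow C.index)
  set ψ : ↥E →* M := (MulAut.conj m).toMonoidHom.comp ψ₀ with hψdef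
  have hψ : Function.Surjective ψ := (MulAut.conj m).surjective.comp hψ₀
  have hψ1 : ∀ x, ψ x = 1 ↔ ψ₀ x = 1 := fun x => MulEquiv.map_eq_one_iff (MulAut.conj m)
  have hUQ : U.map ψ = C.Q := by
    rw [hψdef, ← Subgroup.map_map]
    exact congrArg (fun P : Sylow p M => (P : Subgroup M)) hm
  have hUmem : ∀ e : ↥E, e ∈ U ↔ (e : X) ∈ (T : Subgroup X) := fun e => mem_subgroupOf
  have hT : ∀ s ∈ (T : Subgroup X), ∃ k, s ^ p ^ k = 1 := fun s hs => by
    obtain ⟨k, hk⟩ := T.isPGroup' ⟨s, hs⟩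
    exact ⟨k, congrArg Subtype.val hk⟩
  -- the automorphisms
  have hαex : ∀ s : X, ∃ α : MulAut M, ∀ e : ↥E, α (ψ e) = ψ (MulAut.conjNormal s e) := by
    intro s
    let f : ↥E →* M := ψ.comp (MulAut.conjNormal s : MulAut ↥E).toMonoidHom
    have hf : ψ.ker ≤ f.ker := fun x hx =>
      MonoidHom.mem_ker.2 ((hψ1 _).2 (hchar _ x ((hψ1 x).1 (MonoidHom.mem_ker.1 hx))))
    let g : M →* M := ψ.liftOfSurjective hψ ⟨f, hf⟩
    have hg : ∀ e, g (ψ e) = f e := fun e => MonoidHom.liftOfRightInverse_comp_apply _ _ _ _ e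
    have hgs : Function.Surjective g := fun x => by
      obtain ⟨e, rfl⟩ := hψ x
      exact ⟨ψ ((MulAut.conjNormal s : MulAut ↥E).symm e), by rw [hg]; show ψ _ = _; simp⟩
    exact ⟨MulEquiv.ofBijective g ⟨Finite.injective_iff_surjective.2 hgs, hgs⟩, hg⟩
  choose α hα using hαex
  have hαpow : ∀ (s : X) (j : ℕ) (e : ↥E), (α s ^ j) (ψ e) = ψ (MulAut.conjNormal (s ^ j) e) := by
    intro s j
    induction j with
    | zero => intro e; simp
    | succ j ih => intro e; rw [pow_succ', MulAut.mul_apply, ih, hα, pow_succ', map_mul, MulAut.mul_apply]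
  have hα1 : ∀ s ∈ (T : Subgroup X), ∃ k, α s ^ p ^ k = 1 := by
    intro s hs
    obtain ⟨k, hk⟩ := hT s hs
    refine ⟨k, MulEquiv.ext fun x => ?_⟩
    obtain ⟨e, rfl⟩ := hψ x
    rw [hαpow, hk, map_one]
    rfl
  have hαQ : ∀ s ∈ (T : Subgroup X), C.Q.map (α s).toMonoidHom = C.Q := by
    intro s hs
    refine eq_of_le_of_card_ge ?_ (card_map_of_injective (α s).injective).ge
    rintro _ ⟨x, hx, rfl⟩
    rw [← hUQ] at hx ⊢
    obtain ⟨u, hu, rfl⟩ := hx
    refine ⟨MulAut.conjNormal s u, (hUmem _).2 ?_, (hα s u).symm⟩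
    rw [MulAut.conjNormal_apply]
    exact mul_mem (mul_mem hs ((hUmem u).1 hu)) (inv_mem hs)
  -- elements of the kernel
  have hkcomm : ∀ c : ↥E, ψ c = 1 → ∀ e : ↥E, c * e = e * c := fun c hc e =>
    ((mem_center_iff.1 (hcent ((hψ1 c).1 hc))) e).symm
  have hkorder : ∀ c : ↥E, ψ c = 1 → c ^ Nat.card ↥ψ₀.ker = 1 := fun c hc => by
    have h2 : (⟨c, (hψ1 c).1 hc⟩ : ↥ψ₀.ker) ^ Nat.card ↥ψ₀.ker = 1 := pow_card_eq_one'
    exact congrArg Subtype.val h2
  have hcop : ∀ k : ℕ, (p ^ k).Coprime (Nat.card ↥ψ₀.ker) := fun k =>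
    Nat.Coprime.pow_left k ((hp.coprime_iff_not_dvd).2 fun h => absurd (Nat.le_of_dvd Nat.card_pos h) (not_le.2 hcard))
  have hkfix : ∀ s ∈ (T : Subgroup X), ∀ c : ↥E, ψ c = 1 → s * (c : X) * s⁻¹ = c := by
    intro s hs c hc
    let φ : MulAut ↥E := MulAut.conjNormal s
    have hiff : ∀ x : ↥E, x ∈ ψ₀.ker ↔ φ x ∈ ψ₀.ker := fun x =>
      ⟨fun h => hchar φ x h, fun h => by simpa using hchar φ.symm _ h⟩
    let σ : Equiv.Perm ↥ψ₀.ker := φ.toEquiv.subtypeEquiv hiff
    have hσ : ∀ (j : ℕ) (w : ↥ψ₀.ker), (((σ ^ j) w).1 : X) = s ^ j * (w.1 : X) * (s ^ j)⁻¹ := by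
      intro j
      induction j with
      | zero => intro w; simp
      | succ j ih =>
        intro w
        rw [pow_succ', Equiv.Perm.mul_apply]
        show ((MulAut.conjNormal s ((σ ^ j) w).1 : ↥E) : X) = _
        rw [MulAut.conjNormal_apply, ih w]
        group
    obtain ⟨k, hk⟩ := hT s hs
    have h1 : σ ^ p ^ k = 1 := Equiv.ext fun w => Subtype.ext (Subtype.ext (by simp [hσ, hk]))
    have h2 := hσ 1 ⟨c, (hψ1 c).1 hc⟩
    rw [pow_one, pow_one, perm_eq_one hcard h1] at h2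
    exact h2.symm
  -- a lift of the torus element
  obtain ⟨ñ, hñ⟩ := hψ C.n
  have hnT : ∀ s ∈ (T : Subgroup X), (ñ : X)⁻¹ * s * ñ ∈ (T : Subgroup X) := by
    intro s hs
    obtain ⟨k, hk⟩ := hα1 s hs
    have h := C.fix_coset (α s) (hαQ s hs) hk
    rw [← hñ, hα, ← map_inv, ← map_mul, ← hUQ] at h
    obtain ⟨u, hu, hu'⟩ := h
    set c : ↥E := u⁻¹ * (ñ⁻¹ * MulAut.conjNormal s ñ) with hc
    have hc1 : ψ c = 1 := by rw [hc, map_mul, map_inv, hu', inv_mul_cancel]
    have hcu : (c : X) * u = u * c := congrArg Subtype.val (hkcomm c hc1 u)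
    have hcs : s * (c : X) = c * s := by
      have := hkfix s hs c hc1
      exact mul_inv_eq_iff_eq_mul.1 this
    have e1 : (ñ : X)⁻¹ * s * ñ = (u : X) * c * s := by
      rw [hc]; push_cast; rw [MulAut.conjNormal_apply]; group
    have hws : (u : X) * s ∈ (T : Subgroup X) := mul_mem ((hUmem u).1 hu) hs
    have hcomm' : Commute (c : X) ((u : X) * s) := by
      show (c : X) * (u * s) = u * s * c
      rw [← mul_assoc, hcu, mul_assoc, ← hcs, mul_assoc]
    have e2 : (ñ : X)⁻¹ * s * ñ = (c : X) * ((u : X) * s) := by rw [e1, ← mul_assoc, hcu]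
    obtain ⟨a, ha⟩ := hT s hs
    obtain ⟨b, hb⟩ := hT _ hws
    have h3 : ((ñ : X)⁻¹ * s * ñ) ^ p ^ (a + b) = 1 := by
      rw [show (ñ : X)⁻¹ * s * ñ = (ñ : X)⁻¹ * s * ((ñ : X)⁻¹)⁻¹ by rw [inv_inv], conj_pow, pow_add, pow_mul, ha,
        one_pow]
      group
    have h4 : ((u : X) * s) ^ p ^ (a + b) = 1 := by rw [pow_add, mul_comm, pow_mul, hb, one_pow]
    rw [e2, hcomm'.mul_pow, h4, mul_one] at h3
    have hc0 : c = 1 := eq_one_of_coprime_pow (hcop (a + b)) (Subtype.ext (by simpa using h3)) (hkorder c hc1)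
    rw [e2, hc0, OneMemClass.coe_one, one_mul]
    exact hws
  have hnN : (ñ : X) ∈ normalizer ((T : Subgroup X) : Set X) := by
    have h : (ñ : X)⁻¹ ∈ normalizer ((T : Subgroup X) : Set X) :=
      mem_normalizer_fintype (S := ((T : Subgroup X) : Set X)) fun s hs => by
        rw [inv_inv]; exact hnT s hs
    simpa using inv_mem h
  -- the action of `y` is trivial
  have hβ : α y = 1 := by
    refine C.rigid _ ?_ ?_
    · rw [← hUQ]
      rintro _ ⟨u, hu, rfl⟩
      rw [hα]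
      congr 1
      refine Subtype.ext ?_
      rw [MulAut.conjNormal_apply, ← hcomm _ (le_normalizer ((hUmem u).1 hu)), mul_inv_cancel_right]
    · rw [← hñ, hα]
      congr 1
      refine Subtype.ext ?_
      rw [MulAut.conjNormal_apply, ← hcomm _ hnN, mul_inv_cancel_right]
  have hyC : y ∈ centralizer (E : Set X) := by
    refine mem_centralizer_iff.2 fun e he => ?_
    let c : ↥E := (⟨e, he⟩ : ↥E)⁻¹ * MulAut.conjNormal y ⟨e, he⟩
    have hc1 : ψ c = 1 := by
      show ψ ((⟨e, he⟩ : ↥E)⁻¹ * MulAut.conjNormal y ⟨e, he⟩) = 1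
      rw [map_mul, ← hα, hβ, map_inv, MulAut.one_apply, inv_mul_cancel]
    have hfix := hkfix y hy c hc1
    have hye : y * e * y⁻¹ = e * c := by
      show _ = e * ((e⁻¹) * (y * e * y⁻¹))
      group
    have hpow : ∀ k : ℕ, y ^ k * e * (y ^ k)⁻¹ = e * (c : X) ^ k := by
      intro k
      induction k with
      | zero => simp
      | succ k ih =>
        calc y ^ (k + 1) * e * (y ^ (k + 1))⁻¹ = y * (y ^ k * e * (y ^ k)⁻¹) * y⁻¹ := by group
          _ = y * (e * (c : X) ^ k) * y⁻¹ := by rw [ih]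
          _ = y * e * y⁻¹ * (y * (c : X) * y⁻¹) ^ k := by rw [conj_pow]; group
          _ = _ := by rw [hye, hfix, mul_assoc, ← pow_succ']
    obtain ⟨k, hk⟩ := hT y hy
    have h5 := hpow (p ^ k)
    rw [hk, one_mul, inv_one, mul_one, left_eq_mul] at h5
    have hc0 : c = 1 := eq_one_of_coprime_pow (hcop k) (Subtype.ext (by simpa using h5)) (hkorder c hc1)
    rw [hc0, OneMemClass.coe_one, mul_one] at hye
    exact (mul_inv_eq_iff_eq_mul.1 hye).symm
  -- a normal `p`-subgroup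
  set N := centralizer (E : Set X) ⊓ (T : Subgroup X) with hN
  have hNn : N.Normal := by
    refine normalizer_eq_top_iff.1 (top_le_iff.1 (hsup ▸ sup_le (fun e he => ?_) (fun t ht => ?_)))
    · refine mem_normalizer_fintype fun x hx => ?_
      show e * x * e⁻¹ ∈ N
      rw [mem_centralizer_iff.1 (mem_inf.1 hx).1 e he, mul_inv_cancel_right]
      exact hx
    · refine mem_normalizer_fintype fun x hx => mem_inf.2 ⟨?_, mul_mem (mul_mem ht (mem_inf.1 hx).2) (inv_mem ht)⟩
      refine mem_centralizer_iff.2 fun e he => ?_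
      have h := mem_centralizer_iff.1 (mem_inf.1 hx).1 _ (hEn.conj_mem e he t⁻¹)
      calc e * (t * x * t⁻¹) = t * ((t⁻¹ * e * t⁻¹⁻¹) * x) * t⁻¹ := by group
        _ = _ := by rw [h]; group
  have h := Cores.le_pCore hNn (T.isPGroup'.to_le inf_le_right) (mem_inf.2 ⟨hyC, hy⟩ : y ∈ N)
  rwa [hcore, mem_bot] at h

/-- The four possible residuals give the data. -/
theorem exists_crit {E : Type*} [Group E] [Finite E] (hp5 : 5 ≤ p)
    (h : ∃ (F : Type) (_ : Field F) (_ : Fintype F) (a : ℕ), 1 ≤ a ∧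
      ((Fintype.card F = p ^ a ∧ (Nonempty (E ≃* Matrix.SpecialLinearGroup (Fin 2) F) ∨
                                  Nonempty (E ≃* Matrix.ProjectiveSpecialLinearGroup (Fin 2) F))) ∨
       (Fintype.card F = p ^ (2 * a) ∧ (Nonempty (E ≃* ↥(Cfsg.SU 3 F (p ^ a))) ∨
                                        Nonempty (E ≃* Cfsg.PSU 3 F (p ^ a)))))) :
    ∃ (M : Type) (_ : Group M) (_ : Finite M) (_ : Crit p M) (ψ : E →* M), Function.Surjective ψ ∧
      ψ.ker ≤ center E ∧ (∀ (φ : MulAut E) (x : E), ψ x = 1 → ψ (φ x) = 1) ∧ Nat.card ↥ψ.ker < p := by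
  classical
  obtain ⟨F, _, _, a, ha, h⟩ := h
  have hp : p.Prime := Fact.out
  have hcov : ∀ {Γ : Type} [Group Γ] [Finite Γ] {M : Type} [Group M] [Finite M] (π : Γ →* M), Function.Surjective π →
      π.ker = center Γ → Nat.card ↥(center Γ) < p → Crit p M → (E ≃* Γ) →
      ∃ (M : Type) (_ : Group M) (_ : Finite M) (_ : Crit p M) (ψ : E →* M), Function.Surjective ψ ∧
        ψ.ker ≤ center E ∧ (∀ (φ : MulAut E) (x : E), ψ x = 1 → ψ (φ x) = 1) ∧ Nat.card ↥ψ.ker < p := by
    intro Γ _ _ M _ _ π hπ hker hcard C e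
    have hiff : ∀ x : E, π (e x) = 1 ↔ x ∈ center E := fun x => by
      rw [← MonoidHom.mem_ker, hker, mem_center_iff, mem_center_iff]
      refine ⟨fun h g => e.injective (by rw [map_mul, map_mul, h]), fun h g => ?_⟩
      obtain ⟨g, rfl⟩ := e.surjective g
      rw [← map_mul, ← map_mul, h]
    have hk : (π.comp e.toMonoidHom).ker = center E := Subgroup.ext hiff
    refine ⟨M, inferInstance, inferInstance, C, π.comp e.toMonoidHom, hπ.comp e.surjective, hk.le, fun φ x hx => ?_, ?_⟩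
    · refine (hiff _).2 (mem_center_iff.2 fun g => ?_)
      have := congrArg φ (mem_center_iff.1 ((hiff x).1 hx) (φ.symm g))
      simpa using this
    · rw [hk, Nat.card_congr (centerCongr e).toEquiv]
      exact hcard
  have hsimp : ∀ {M : Type} [Group M] [Finite M], Crit p M → (E ≃* M) →
      ∃ (M : Type) (_ : Group M) (_ : Finite M) (_ : Crit p M) (ψ : E →* M), Function.Surjective ψ ∧
        ψ.ker ≤ center E ∧ (∀ (φ : MulAut E) (x : E), ψ x = 1 → ψ (φ x) = 1) ∧ Nat.card ↥ψ.ker < p := by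
    intro M _ _ C e
    have h1 : e.toMonoidHom.ker = ⊥ := (MonoidHom.ker_eq_bot_iff _).2 e.injective
    refine ⟨M, inferInstance, inferInstance, C, e.toMonoidHom, e.surjective, h1 ▸ bot_le, fun φ x hx => ?_, ?_⟩
    · have : x = 1 := e.injective (hx.trans (map_one e).symm)
      rw [this, map_one, map_one]
    · rw [h1, card_bot]
      omega
  rcases h with ⟨hF, h⟩ | ⟨hF, h⟩
  · haveI : CharP F p := charP_of_card_eq_prime_pow hF
    have h4 : 4 ≤ Fintype.card F := by
      rw [hF]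
      exact le_trans (by omega) (Nat.le_self_pow (Nat.one_le_iff_ne_zero.1 ha) p)
    obtain ⟨C⟩ := crit_psl (F := F) p hp5 h4
    rcases h with ⟨⟨e⟩⟩ | ⟨⟨e⟩⟩
    · exact hcov (QuotientGroup.mk' _) (QuotientGroup.mk'_surjective _) (QuotientGroup.ker_mk' _)
        (lt_of_le_of_lt card_center_psl (by omega)) C e
    · exact hsimp C e
  · haveI : CharP F p := charP_of_card_eq_prime_pow hF
    have hF' : Fintype.card F = (p ^ a) ^ 2 := by rw [hF, ← pow_mul, mul_comm]
    obtain ⟨C⟩ := crit_psu hF' hp5 ha rfl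
    rcases h with ⟨⟨e⟩⟩ | ⟨⟨e⟩⟩
    · refine hcov (AutPSU.cl 3 F (p ^ a)) AutPSU.cl_surjective (QuotientGroup.ker_mk' _) ?_ C e
      rw [Unitary.card_center_SU hF' (by omega)]
      have := Nat.le_of_dvd (by omega) (Nat.gcd_dvd_left 3 (p ^ a + 1))
      omega
    · exact hsimp C e

end Cfsg.Agent.PMinimalCentre
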